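import Cfsg.Agent.Lib.CoprimeBase.PiSolvable
import Mathlib.RepresentationTheory.Basic
import Mathlib.Algebra.CharP.Basic

/-!
The module hypothesis in representation form.
-/

set_option autoImplicit false
set_option linter.style.haveILetI false

namespace CfsgLib.CoprimeBase

universe u v

/-- Bases of size two for faithful coprime solvable representations over odd prime fields. -/
def RepBase : Prop :=
  ∀ (q : ℕ) [Fact q.Prime], ringChar (ZMod q) ≠ 2 → ∀ (V : Type v) [AddCommGroup V]
    [Module (ZMod q) V] [Finite V] (G : Type u) [Group G] [Finite G],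
    Group.IsSolvable G → ∀ (ρ : Representation (ZMod q) G V), Function.Injective ρ →
    (Nat.card G).Coprime (Nat.card V) → ∃ x y : V, ∀ g : G, ρ g x = x → ρ g y = y → g = 1

/-- The action as a representation. -/
def repOfModule (A : Type u) (V : Type v) [Group A] [AddCommGroup V] [DistribMulAction A V] {q : ℕ}
    [Module (ZMod q) V] : Representation (ZMod q) A V where
  toFun a := AddMonoidHom.toZModLinearMap q (DistribSMul.toAddMonoidHom V a)
  map_one' := LinearMap.ext fun x => one_smul A x
  map_mul' a b := LinearMap.ext fun x => mul_smul a b x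

theorem evenBase_of_repBase (h : RepBase.{u, v}) : EvenBase.{u, v} := by
  intro A V _ _ _ _ _ _ q hA _ hq hq2 hexp hcop
  haveI := Fact.mk hq
  letI : Module (ZMod q) V := AddCommGroup.zmodModule hexp
  obtain ⟨z, w, hzw⟩ := h q (by rwa [ZMod.ringChar_zmod_n]) V A hA (repOfModule A V)
    (fun a b hab => FaithfulSMul.eq_of_smul_eq_smul (α := V) fun x => LinearMap.congr_fun hab x) hcop
  exact ⟨z, w, fun a ha hb => hzw a ha hb⟩

end CfsgLib.CoprimeBase
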