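import Cfsg.Agent.Lib.CoprimeBase.Basic
import Cfsg.Agent.Lib.OddBase.Main
import Mathlib.LinearAlgebra.Projection

/-!
The module hypothesis for coprime bases: odd order, and the reduction of even order to faithful
modules of odd characteristic.
-/

set_option autoImplicit false
set_option linter.unusedSectionVars false
set_option linter.style.haveILetI false

namespace CfsgLib.CoprimeBase

universe u v

/-- Two vectors for faithful coprime modules of even order solvable groups in odd characteristic. -/
def EvenBase : Prop :=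
  ∀ (A : Type u) (V : Type v) [Group A] [Finite A] [AddCommGroup V] [Finite V]
    [DistribMulAction A V] [FaithfulSMul A V] (q : ℕ), Group.IsSolvable A → Even (Nat.card A) →
    q.Prime → q ≠ 2 → (∀ z : V, q • z = 0) → (Nat.card A).Coprime (Nat.card V) →
    ∃ z w : V, ∀ a : A, a • z = z → a • w = w → a = 1

/-- Maschke: coprime elementary abelian modules are completely reducible. -/
theorem completely_reducible_aux {A : Type u} {V : Type v} [Group A] [Finite A] [AddCommGroup V]
    [DistribMulAction A V] {q : ℕ} [Fact q.Prime] [Module (ZMod q) V]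
    (hcop : ¬ q ∣ Nat.card A) :
    ∀ U : AddSubgroup V, (∀ a : A, ∀ z ∈ U, a • z ∈ U) →
      ∃ W : AddSubgroup V, (∀ a : A, ∀ z ∈ W, a • z ∈ W) ∧ U ⊓ W = ⊥ ∧ U ⊔ W = ⊤ := by
  intro U hU
  classical
  letI := Fintype.ofFinite A
  obtain ⟨U', hmem⟩ : ∃ U' : Submodule (ZMod q) V, ∀ x : V, x ∈ U' ↔ x ∈ U :=
    ⟨{ U.toAddSubmonoid with
        smul_mem' := fun c x hx => ZMod.smul_mem (K := U) hx c }, fun x => Iff.rfl⟩
  obtain ⟨C, hC⟩ := U'.exists_isCompl
  obtain ⟨p, hpU, hpid⟩ : ∃ p : V →ₗ[ZMod q] V, (∀ x, p x ∈ U) ∧ ∀ x ∈ U, p x = x :=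
    ⟨U'.subtype.comp (Submodule.linearProjOfIsCompl U' C hC),
      fun x => (hmem _).mp (Submodule.linearProjOfIsCompl U' C hC x).2,
      fun x hx => congrArg Subtype.val (Submodule.linearProjOfIsCompl_apply_left hC ⟨x, (hmem x).mpr hx⟩)⟩
  have hscal : ∀ (a : A) (c : ZMod q) (x : V), a • (c • x) = c • (a • x) := fun a c x =>
    ZMod.map_smul (DistribSMul.toAddMonoidHom V a) c x
  set n : ZMod q := (Fintype.card A : ZMod q) with hn
  have hn0 : n ≠ 0 := by
    rw [hn, Ne, ZMod.natCast_eq_zero_iff, ← Nat.card_eq_fintype_card]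
    exact hcop
  let φ : V →+ V := AddMonoidHom.mk' (fun x => n⁻¹ • ∑ a : A, a • p (a⁻¹ • x)) fun x y => by
    simp only [smul_add, map_add, Finset.sum_add_distrib]
  have hφ : ∀ x, φ x = n⁻¹ • ∑ a : A, a • p (a⁻¹ • x) := fun x => rfl
  have hφU : ∀ x, φ x ∈ U := fun x =>
    (hmem _).mp (U'.smul_mem _ ((hmem _).mpr (sum_mem fun a _ => hU a _ (hpU _))))
  have hφid : ∀ x ∈ U, φ x = x := fun x hx => by
    rw [hφ, Finset.sum_congr rfl (g := fun _ => x) fun a _ => by
      rw [hpid _ (hU _ _ hx), smul_inv_smul]]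
    rw [Finset.sum_const, Finset.card_univ, ← Nat.cast_smul_eq_nsmul (ZMod q), smul_smul, ← hn,
      inv_mul_cancel₀ hn0, one_smul]
  have hφeq : ∀ (g : A) x, φ (g • x) = g • φ x := fun g x => by
    rw [hφ, hφ, hscal]
    congr 1
    rw [Finset.smul_sum]
    refine (Fintype.sum_equiv (Equiv.mulLeft g) _ _ fun a => ?_).symm
    simp [mul_smul]
  refine ⟨φ.ker, fun g x hx => ?_, ?_, ?_⟩
  · rw [AddMonoidHom.mem_ker] at hx ⊢
    rw [hφeq, hx, smul_zero]
  · rw [AddSubgroup.eq_bot_iff_forall]
    rintro x ⟨hxU, hxW⟩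
    rw [← hφid x hxU]
    exact hxW
  · rw [AddSubgroup.eq_top_iff']
    intro x
    refine AddSubgroup.mem_sup.mpr ⟨φ x, hφU x, x - φ x, ?_, add_sub_cancel _ _⟩
    rw [AddMonoidHom.mem_ker, map_sub, hφid _ (hφU x), sub_self]

theorem completely_reducible {A : Type u} {V : Type v} [Group A] [Finite A] [AddCommGroup V]
    [DistribMulAction A V] {q : ℕ} [Fact q.Prime] (hexp : ∀ z : V, q • z = 0)
    (hcop : ¬ q ∣ Nat.card A) :
    ∀ U : AddSubgroup V, (∀ a : A, ∀ z ∈ U, a • z ∈ U) →
      ∃ W : AddSubgroup V, (∀ a : A, ∀ z ∈ W, a • z ∈ W) ∧ U ⊓ W = ⊥ ∧ U ⊔ W = ⊤ :=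
  @completely_reducible_aux A V _ _ _ _ q _ (AddCommGroup.zmodModule hexp) hcop

theorem moduleBase_of_evenBase (h : EvenBase.{u, v}) (A : Type u) [Group A] [Finite A]
    [hA : Group.IsSolvable A] : ModuleBase.{u, v} A := by
  intro q V _ _ _ hq hexp hcop
  haveI := Fact.mk hq
  classical
  by_cases hV : Nontrivial V
  swap
  · haveI := not_nontrivial_iff_subsingleton.mp hV
    exact ⟨0, 0, fun a _ _ t => Subsingleton.elim _ _⟩
  set N : Subgroup A := (MulAction.toPermHom A V).ker with hN
  have hmemN : ∀ a : A, a ∈ N → ∀ t : V, a • t = t := fun a ha t => by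
    have := congrArg (fun σ : Equiv.Perm V => σ t) (MonoidHom.mem_ker.mp ha)
    simpa using this
  letI : SMul (A ⧸ N) V :=
    ⟨fun a t => Quotient.liftOn' a (fun g => g • t) fun g g' hgg' => by
      rw [QuotientGroup.leftRel_apply] at hgg'
      show g • t = g' • t
      conv_rhs => rw [show g' = g * (g⁻¹ * g') by group, mul_smul, hmemN _ hgg' t]⟩
  have hmk : ∀ (g : A) (t : V), (g : A ⧸ N) • t = g • t := fun g t => rfl
  letI : DistribMulAction (A ⧸ N) V :=
    { one_smul := fun t => one_smul A t
      mul_smul := fun a b t => by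
        induction a using QuotientGroup.induction_on with
        | _ a =>
        induction b using QuotientGroup.induction_on with
        | _ b => exact mul_smul a b t
      smul_zero := fun a => by
        induction a using QuotientGroup.induction_on with
        | _ a => exact smul_zero a
      smul_add := fun a s t => by
        induction a using QuotientGroup.induction_on with
        | _ a => exact smul_add a s t }
  haveI : FaithfulSMul (A ⧸ N) V := ⟨fun {a b} hab => by
    induction a using QuotientGroup.induction_on with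
    | _ a =>
    induction b using QuotientGroup.induction_on with
    | _ b =>
    refine QuotientGroup.eq.mpr (MonoidHom.mem_ker.mpr (Equiv.ext fun t => ?_))
    show (a⁻¹ * b) • t = t
    rw [mul_smul, show b • t = a • t from (hab t).symm, inv_smul_smul]⟩
  have hcop' : (Nat.card (A ⧸ N)).Coprime (Nat.card V) :=
    hcop.coprime_dvd_left N.card_quotient_dvd_card
  have hqV : q ∣ Nat.card V := by
    obtain ⟨t, ht⟩ := exists_ne (0 : V)
    rw [← addOrderOf_eq_prime (hexp t) ht]
    exact addOrderOf_dvd_natCard t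
  haveI : Group.IsSolvable (A ⧸ N) :=
    Group.isSolvable_of_surjective (QuotientGroup.mk'_surjective N)
  suffices h' : ∃ z w : V, ∀ a : A ⧸ N, a • z = z → a • w = w → a = 1 by
    obtain ⟨z, w, hzw⟩ := h'
    refine ⟨z, w, fun a haz haw t => ?_⟩
    rw [← hmk, hzw (a : A ⧸ N) haz haw, one_smul]
  rcases Nat.even_or_odd (Nat.card (A ⧸ N)) with hev | hodd
  · refine h (A ⧸ N) V q inferInstance hev hq ?_ hexp hcop'
    rintro rfl
    exact absurd (Nat.dvd_gcd hev.two_dvd hqV) (by rw [hcop']; norm_num)
  · exact CfsgLib.OddBase.exists_two_vectors hodd inferInstance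
      (completely_reducible hexp fun hd => absurd (Nat.dvd_gcd hd hqV) (by
        rw [hcop']; exact fun h1 => hq.ne_one (Nat.dvd_one.mp h1)))

/-- A solvable group acting coprimely on any finite group has two elements with trivial common
stabiliser when the action is faithful. -/
theorem exists_two_elements_faithful (h : EvenBase.{u, v}) {A : Type u} {K : Type v} [Group A]
    [Finite A] [Group K] [Finite K] [MulDistribMulAction A K] [FaithfulSMul A K]
    (hA : Group.IsSolvable A) (hcop : (Nat.card A).Coprime (Nat.card K)) :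
    ∃ x y : K, ∀ a : A, a • x = x → a • y = y → a = 1 := by
  obtain ⟨x, y, hxy⟩ := exists_two_elements hcop (moduleBase_of_evenBase h A)
  exact ⟨x, y, fun a ha hb => FaithfulSMul.eq_of_smul_eq_smul (α := K) fun m => by
    rw [one_smul]; exact hxy a ha hb m⟩

end CfsgLib.CoprimeBase
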