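import Cfsg.Agent.Lib.PairBase.Main
import Cfsg.Agent.Lib.CoprimeBase.Module

/-!
Bases of size two in odd characteristic, in the form the reductions use.
-/

set_option autoImplicit false

namespace CfsgLib.CoprimeBase

universe u v

theorem evenBase_holds : EvenBase.{u, v} :=
  evenBase_of_repBase fun q _ hq V _ _ _ G _ _ hG ρ hρ hcop =>
    exists_pair_rep (fun p _ => CfsgLib.PairBase.primBase p) hq hG ρ hρ hcop

end CfsgLib.CoprimeBase
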