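import Cfsg.Agent.Lib.Solvable.CoprimeMulAction
import Mathlib.GroupTheory.Frattini
import Mathlib.GroupTheory.Nilpotent

/-!
Reduction of bases of size two for coprime actions of solvable groups to elementary abelian modules.

If `H` is a maximal invariant proper subgroup and `Q` a minimal invariant `q`-subgroup outside it,
bases of `H` and of `Q / (Q ∩ H)` glue to a base of `⟨H, Q⟩`.
-/

set_option autoImplicit false
set_option linter.unusedSectionVars false

namespace CfsgLib.CoprimeBase

open Subgroup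

universe u v

variable {A : Type u} {K : Type v} [Group A] [Group K] [MulDistribMulAction A K]

/-- An invariant subgroup. -/
def Inv (A : Type u) [Group A] [MulDistribMulAction A K] (M : Subgroup K) : Prop :=
  ∀ a : A, ∀ m ∈ M, a • m ∈ M

/-- Two elements with the smallest possible common stabiliser. -/
def Based (A : Type u) [Group A] [MulDistribMulAction A K] (M : Subgroup K) : Prop :=
  ∃ x ∈ M, ∃ y ∈ M, ∀ a : A, a • x = x → a • y = y → ∀ m ∈ M, a • m = m

/-- The module hypothesis: coprime elementary abelian modules have two vectors with the smallest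
possible common stabiliser. -/
def ModuleBase (A : Type u) [Group A] : Prop :=
  ∀ (q : ℕ) (V : Type v) [AddCommGroup V] [Finite V] [DistribMulAction A V], q.Prime →
    (∀ z : V, q • z = 0) → (Nat.card A).Coprime (Nat.card V) →
    ∃ z w : V, ∀ a : A, a • z = z → a • w = w → ∀ t : V, a • t = t

/-- The action on an invariant subgroup. -/
@[reducible] def subAct (M : Subgroup K) (hM : Inv A M) : MulDistribMulAction A M where
  smul a m := ⟨a • (m : K), hM a m m.2⟩
  one_smul m := Subtype.ext (one_smul A (m : K))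
  mul_smul a b m := Subtype.ext (mul_smul a b (m : K))
  smul_mul a m n := Subtype.ext (smul_mul' a (m : K) (n : K))
  smul_one a := Subtype.ext (smul_one a)

theorem inv_sup {M N : Subgroup K} (hM : Inv A M) (hN : Inv A N) : Inv A (M ⊔ N) := by
  intro a m hm
  have h : M ⊔ N ≤ (M ⊔ N).comap (MulDistribMulAction.toMonoidHom K a) :=
    sup_le (fun x hx => mem_sup_left (hM a x hx)) (fun x hx => mem_sup_right (hN a x hx))
  exact h hm

theorem inv_inf {M N : Subgroup K} (hM : Inv A M) (hN : Inv A N) : Inv A (M ⊓ N) :=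
  fun a m hm => ⟨hM a m hm.1, hN a m hm.2⟩

theorem exists_coset_fixed [Finite A] [Finite K] [Group.IsSolvable A]
    (hcop : (Nat.card A).Coprime (Nat.card K)) {Q D : Subgroup K} (hQ : Inv A Q) (hD : Inv A D)
    (B : Subgroup A) {k : K} (hk : k ∈ Q) (hfix : ∀ b ∈ B, k⁻¹ * (b • k) ∈ D) :
    ∃ d ∈ Q ⊓ D, ∀ b ∈ B, b • (k * d) = k * d := by
  letI := subAct Q hQ
  obtain ⟨d, hd, h⟩ := CfsgLib.Solvable.exists_smul_fixed_mem_coset (A := B) (K := Q)
    ((hcop.coprime_dvd_left B.card_subgroup_dvd_card).coprime_dvd_right Q.card_subgroup_dvd_card)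
    (Or.inl inferInstance) (D := D.subgroupOf Q) (fun b x hx => hD (b : A) x hx)
    (x := ⟨k, hk⟩) (fun b => hfix b b.2)
  exact ⟨d, ⟨d.2, hd⟩, fun b hb => congrArg Subtype.val (h ⟨b, hb⟩)⟩

theorem exists_sylow_outside [Finite A] [Finite K] [Group.IsSolvable A]
    (hcop : (Nat.card A).Coprime (Nat.card K)) {M H : Subgroup K} (hM : Inv A M) (hlt : H < M) :
    ∃ q, q.Prime ∧ ∃ R : Subgroup K, R ≤ M ∧ ¬ R ≤ H ∧ IsPGroup q R ∧ Inv A R := by
  have h1 : H.relIndex M ≠ 1 := fun h => hlt.not_ge (relIndex_eq_one.mp h)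
  obtain ⟨q, hq, hdvd⟩ := Nat.exists_prime_and_dvd h1
  haveI := Fact.mk hq
  letI := subAct M hM
  obtain ⟨P, -, hP⟩ := CfsgLib.Solvable.exists_smul_invariant_sylow
    (hcop.coprime_dvd_right M.card_subgroup_dvd_card) (Or.inl inferInstance) q (U := (⊥ : Subgroup M))
    (IsPGroup.of_bot) (fun a u hu => by rw [mem_bot.mp hu, smul_one]; exact one_mem _)
  refine ⟨q, hq, (P : Subgroup M).map M.subtype, map_subtype_le _, fun hle => ?_,
    P.isPGroup'.map _, ?_⟩
  · refine P.not_dvd_index (hdvd.trans (index_dvd_of_le (H := (P : Subgroup M)) (K := H.subgroupOf M) ?_))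
    exact fun x hx => hle ⟨x, hx, rfl⟩
  · rintro a _ ⟨x, hx, rfl⟩
    exact ⟨a • x, hP a x hx, rfl⟩

theorem based_of_module [Finite A] [Finite K] [Group.IsSolvable A]
    (hcop : (Nat.card A).Coprime (Nat.card K)) (hmod : ModuleBase.{u, v} A) :
    ∀ (n : ℕ) (M : Subgroup K), Nat.card M = n → Inv A M → Based A M := by
  intro n
  induction n using Nat.strong_induction_on with
  | _ n ih =>
  intro M hn hM
  by_cases hMbot : M = ⊥
  · subst hMbot
    exact ⟨1, one_mem _, 1, one_mem _, fun a _ _ m hm => by rw [mem_bot.mp hm, smul_one]⟩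
  have hbot : (⊥ : Subgroup K) ∈ {H : Subgroup K | H < M ∧ Inv A H} :=
    ⟨bot_lt_iff_ne_bot.mpr hMbot, fun a m hm => by rw [mem_bot.mp hm, smul_one]; exact one_mem _⟩
  obtain ⟨H, hHmax⟩ :=
    (Set.toFinite {H : Subgroup K | H < M ∧ Inv A H}).exists_maximal ⟨⊥, hbot⟩
  obtain ⟨hHlt, hHinv⟩ := hHmax.prop
  obtain ⟨q, hq, R, hRM, hRH, hRp, hRinv⟩ := exists_sylow_outside hcop hM hHlt
  haveI := Fact.mk hq
  obtain ⟨Q, hQmin⟩ := (Set.toFinite
    {Q : Subgroup K | Q ≤ M ∧ ¬ Q ≤ H ∧ IsPGroup q Q ∧ Inv A Q}).exists_minimal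
      ⟨R, hRM, hRH, hRp, hRinv⟩
  obtain ⟨hQM, hQH, hQp, hQinv⟩ := hQmin.prop
  have hproper : ∀ T : Subgroup K, T < Q → Inv A T → T ≤ H := fun T hT hTinv => by
    by_contra hTH
    exact hT.not_ge (hQmin.2 ⟨hT.le.trans hQM, hTH, hQp.to_le hT.le, hTinv⟩ hT.le)
  letI := subAct Q hQinv
  haveI : Nontrivial Q := by
    rw [nontrivial_iff_ne_bot]
    rintro rfl
    exact hQH bot_le
  haveI : Group.IsNilpotent Q := hQp.isNilpotent
  have hΦ : ∀ T : Subgroup Q, T < ⊤ → (∀ a : A, ∀ x ∈ T, a • x ∈ T) → T.map Q.subtype ≤ H := by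
    intro T hT hTinv
    refine hproper _ ?_ (by rintro a _ ⟨x, hx, rfl⟩; exact ⟨a • x, hTinv a x hx, rfl⟩)
    have h := (map_lt_map_iff_of_injective (f := Q.subtype) Q.subtype_injective).mpr hT
    rwa [← MonoidHom.range_eq_map, range_subtype] at h
  -- commutators and `q`-th powers of `Q` lie in `H`
  have hcomm : ∀ x y : Q, ((x⁻¹ * y⁻¹ * (x * y) : Q) : K) ∈ H := by
    intro x y
    refine hΦ (commutator Q) (Group.IsSolvable.commutator_lt_top_of_nontrivial Q) (fun a z hz => ?_)
      ⟨x⁻¹ * y⁻¹ * (x * y), ?_, rfl⟩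
    · have h : (commutator Q).map (MulDistribMulAction.toMonoidHom Q a) ≤ commutator Q := by
        rw [commutator_def, map_commutator]
        exact commutator_mono le_top le_top
      exact h (mem_map_of_mem _ hz)
    · rw [commutator_def]
      have := commutator_mem_commutator (mem_top x⁻¹) (mem_top y⁻¹)
      rwa [commutatorElement_def, inv_inv, inv_inv, mul_assoc] at this
  set D : Subgroup Q := H.subgroupOf Q with hD
  haveI : D.Normal := ⟨fun d hd x => by
    have h1 := hcomm x⁻¹ d⁻¹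
    rw [mem_subgroupOf] at hd ⊢
    have h2 := mul_mem h1 hd
    convert h2 using 1
    push_cast
    group⟩
  have mk_eq : ∀ x : Q, (x : Q ⧸ D) = 1 ↔ (x : K) ∈ H := fun x => by
    rw [QuotientGroup.eq_one_iff, hD, mem_subgroupOf]
  letI : CommGroup (Q ⧸ D) :=
    { (inferInstance : Group (Q ⧸ D)) with
      mul_comm := fun s t => by
        induction s using QuotientGroup.induction_on with
        | _ s =>
        induction t using QuotientGroup.induction_on with
        | _ t =>
        rw [← QuotientGroup.mk_mul, ← QuotientGroup.mk_mul, eq_comm, QuotientGroup.eq, hD,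
          mem_subgroupOf]
        have := hcomm s t
        convert this using 1
        push_cast
        group }
  have hDinv : ∀ a : A, ∀ x ∈ D, a • x ∈ D := fun a x hx => hHinv a _ hx
  -- the action on the quotient
  let act : A → (Q ⧸ D) →* (Q ⧸ D) := fun a =>
    QuotientGroup.map D D (MulDistribMulAction.toMonoidHom Q a) (fun x hx => hDinv a x hx)
  letI : DistribMulAction A (Additive (Q ⧸ D)) :=
    { smul := fun a z => Additive.ofMul (act a (Additive.toMul z))
      one_smul := fun z => by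
        refine Additive.toMul.injective ?_
        show act 1 (Additive.toMul z) = Additive.toMul z
        induction (Additive.toMul z) using QuotientGroup.induction_on with
        | _ x => exact congrArg (QuotientGroup.mk (s := D)) (one_smul A x)
      mul_smul := fun a b z => by
        refine Additive.toMul.injective ?_
        show act (a * b) (Additive.toMul z) = act a (act b (Additive.toMul z))
        induction (Additive.toMul z) using QuotientGroup.induction_on with
        | _ x => exact congrArg (QuotientGroup.mk (s := D)) (mul_smul a b x)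
      smul_zero := fun a => congrArg Additive.ofMul (map_one (act a))
      smul_add := fun a z w => congrArg Additive.ofMul (map_mul (act a) _ _) }
  have hsmul : ∀ (a : A) (x : Q), (a • Additive.ofMul (x : Q ⧸ D) : Additive (Q ⧸ D)) =
      Additive.ofMul ((a • x : Q) : Q ⧸ D) := fun a x => rfl
  have hexp : ∀ z : Additive (Q ⧸ D), q • z = 0 := by
    let T : Subgroup Q := (powMonoidHom q : (Q ⧸ D) →* (Q ⧸ D)).range.comap (QuotientGroup.mk' D)
    have hTinv : ∀ a : A, ∀ x ∈ T, a • x ∈ T := by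
      rintro a x ⟨t, ht⟩
      refine ⟨act a t, ?_⟩
      have := congrArg (act a) ht
      rw [powMonoidHom_apply] at this ⊢
      rw [map_pow] at this
      exact this
    intro z
    obtain ⟨x, hx⟩ := QuotientGroup.mk_surjective (Additive.toMul z)
    refine Additive.toMul.injective ?_
    rw [toMul_nsmul, toMul_zero, ← hx]
    by_cases hT : T = ⊤
    · exfalso
      have hsurj : Function.Surjective fun s : Q ⧸ D => s ^ q := fun s => by
        induction s using QuotientGroup.induction_on with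
        | _ s =>
          obtain ⟨t, ht⟩ : s ∈ T := by rw [hT]; exact mem_top _
          exact ⟨t, ht⟩
      obtain ⟨k, hk⟩ := IsPGroup.iff_card.1 (hQp.to_quotient D)
      have hne : k ≠ 0 := fun h0 => hQH fun y hy => by
        rw [h0, pow_zero] at hk
        haveI := (Nat.card_eq_one_iff_unique.mp hk).1
        exact (mk_eq ⟨y, hy⟩).mp (Subsingleton.elim _ _)
      obtain ⟨c, hc⟩ := exists_prime_orderOf_dvd_card' (G := Q ⧸ D) q (hk ▸ dvd_pow_self q hne)
      have : c = 1 := Finite.injective_iff_surjective.2 hsurj (by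
        show c ^ q = 1 ^ q
        rw [one_pow, ← hc, pow_orderOf_eq_one])
      rw [this, orderOf_one] at hc
      exact hq.ne_one hc.symm
    · rw [← QuotientGroup.mk_pow, mk_eq]
      refine hΦ T (lt_top_iff_ne_top.mpr hT) hTinv ⟨x ^ q, ⟨(x : Q ⧸ D), ?_⟩, rfl⟩
      rw [powMonoidHom_apply]
      rfl
  have hcopV : (Nat.card A).Coprime (Nat.card (Additive (Q ⧸ D))) :=
    hcop.coprime_dvd_right ((D.card_quotient_dvd_card).trans Q.card_subgroup_dvd_card)
  obtain ⟨z, w, hzw⟩ := hmod q (Additive (Q ⧸ D)) hq hexp hcopV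
  obtain ⟨u₀, hu₀⟩ := QuotientGroup.mk_surjective (Additive.toMul z)
  obtain ⟨w₀, hw₀⟩ := QuotientGroup.mk_surjective (Additive.toMul w)
  have hz' : z = Additive.ofMul (u₀ : Q ⧸ D) := by rw [hu₀]; rfl
  have hw' : w = Additive.ofMul (w₀ : Q ⧸ D) := by rw [hw₀]; rfl
  let B : Subgroup A := MulAction.stabilizer A z ⊓ MulAction.stabilizer A w
  have hfixmod : ∀ {a : A} {x : Q}, a • Additive.ofMul (x : Q ⧸ D) = Additive.ofMul (x : Q ⧸ D) ↔
      (x : K)⁻¹ * (a • (x : K)) ∈ H := by
    intro a x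
    rw [hsmul, Additive.ofMul.injective.eq_iff, eq_comm, QuotientGroup.eq, hD, mem_subgroupOf]
    rfl
  obtain ⟨d₁, hd₁, hu⟩ := exists_coset_fixed hcop hQinv hHinv B u₀.2 fun b hb =>
    hfixmod.mp (hz' ▸ hb.1)
  obtain ⟨d₂, hd₂, hw⟩ := exists_coset_fixed hcop hQinv hHinv B w₀.2 fun b hb =>
    hfixmod.mp (hw' ▸ hb.2)
  have hlt : Nat.card H < n := hn ▸ Set.ncard_lt_ncard (SetLike.coe_ssubset_coe.mpr hHlt) (Set.toFinite _)
  obtain ⟨xH, hxH, yH, hyH, hbase⟩ := ih _ hlt H rfl hHinv
  refine ⟨(u₀ : K) * d₁ * xH, mul_mem (hQM (mul_mem u₀.2 hd₁.1)) (hHlt.le hxH),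
    (w₀ : K) * d₂ * yH, mul_mem (hQM (mul_mem w₀.2 hd₂.1)) (hHlt.le hyH), fun a hax hay => ?_⟩
  have key : ∀ (x₀ : Q) (d xh : K), d ∈ H → xh ∈ H → a • ((x₀ : K) * d * xh) = (x₀ : K) * d * xh →
      (x₀ : K)⁻¹ * (a • (x₀ : K)) ∈ H := by
    intro x₀ d xh hd hxh he
    rw [smul_mul', smul_mul'] at he
    have e : (x₀ : K)⁻¹ * (a • (x₀ : K)) = d * xh * (a • xh)⁻¹ * (a • d)⁻¹ := by
      rw [eq_mul_inv_iff_mul_eq, eq_mul_inv_iff_mul_eq, mul_assoc, mul_assoc, inv_mul_eq_iff_eq_mul,
        ← mul_assoc, ← mul_assoc]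
      exact he
    rw [e]
    exact mul_mem (mul_mem (mul_mem hd hxh) (inv_mem (hHinv a _ hxh))) (inv_mem (hHinv a _ hd))
  have haB : a ∈ B := by
    refine ⟨?_, ?_⟩
    · show a • z = z
      rw [hz']
      exact hfixmod.mpr (key u₀ d₁ xH hd₁.2 hxH hax)
    · show a • w = w
      rw [hw']
      exact hfixmod.mpr (key w₀ d₂ yH hd₂.2 hyH hay)
  have haH : ∀ m ∈ H, a • m = m := by
    refine hbase a ?_ ?_
    · rw [smul_mul', hu a haB] at hax
      exact mul_left_cancel hax
    · rw [smul_mul', hw a haB] at hay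
      exact mul_left_cancel hay
  have haQ : ∀ m ∈ Q, a • m = m := by
    intro m hm
    have ht := hzw a haB.1 haB.2 (Additive.ofMul ((⟨m, hm⟩ : Q) : Q ⧸ D))
    have hmod' := hfixmod.mp ht
    have hsta : zpowers a ≤ MulAction.stabilizer A (Additive.ofMul ((⟨m, hm⟩ : Q) : Q ⧸ D)) :=
      zpowers_le.mpr ht
    obtain ⟨d, hd, h⟩ := exists_coset_fixed hcop hQinv hHinv (zpowers a) hm fun b hb =>
      hfixmod.mp (hsta hb)
    have := h a (mem_zpowers a)
    rw [smul_mul', haH d hd.2] at this
    exact mul_right_cancel this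
  intro m hm
  have hMle : M ≤ H ⊔ Q := by
    by_contra hne
    have hle : H ⊔ Q ≤ M := sup_le hHlt.le hQM
    exact hQH (le_sup_right.trans (hHmax.2 ⟨lt_of_le_not_ge hle hne, inv_sup hHinv hQinv⟩ le_sup_left))
  have hF : H ⊔ Q ≤
      (MulDistribMulAction.toMonoidHom K a).eqLocus (MonoidHom.id K) :=
    sup_le haH haQ
  exact hF (hMle hm)

/-- A solvable group acting coprimely has two elements with the smallest possible common stabiliser,
if this holds on elementary abelian modules. -/
theorem exists_two_elements [Finite A] [Finite K] [Group.IsSolvable A]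
    (hcop : (Nat.card A).Coprime (Nat.card K)) (hmod : ModuleBase.{u, v} A) :
    ∃ x y : K, ∀ a : A, a • x = x → a • y = y → ∀ m : K, a • m = m := by
  obtain ⟨x, -, y, -, h⟩ := based_of_module hcop hmod _ ⊤ rfl (fun _ _ _ => mem_top _)
  exact ⟨x, y, fun a ha hb m => h a ha hb m (mem_top m)⟩

end CfsgLib.CoprimeBase
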