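import Cfsg.Agent.Lib.CoprimeBase.Glue
import Cfsg.Agent.Lib.PairBase.Setting
import Mathlib.RingTheory.LittleWedderburn

/-!
# Coprime linear groups: the homogeneous case

In a saturated group the units of every invariant field of endomorphisms lie in the group. So the
maximal abelian normal subgroup consists of all scalars, and only scalars commute with an irreducible
layer.
-/

set_option autoImplicit false
set_option maxHeartbeats 800000
set_option linter.unusedSectionVars false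
set_option linter.style.haveILetI false

namespace CfsgLib.CoprimeBase

open CfsgLib.OddBase
open scoped commutatorElement

universe u

variable {G V : Type u} [Group G] [AddCommGroup V]

/-- Every coprime abelian group of units normalized by the group lies in it. -/
def Saturated (q : ℕ) (ρ : G →* AddMonoid.End V) : Prop :=
  ∀ T : Subgroup (AddMonoid.End V)ˣ, ¬ q ∣ Nat.card T → (∀ a ∈ T, ∀ b ∈ T, a * b = b * a) →
    (∀ g : G, ∀ t ∈ T, ρ.toHomUnits g * t * (ρ.toHomUnits g)⁻¹ ∈ T) →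
    ∀ t ∈ T, ∃ g, ρ g = (t : AddMonoid.End V)

/-- The units of an invariant field of endomorphisms come from the group. -/
theorem units_mem [Finite V] [Nontrivial V] {q : ℕ} [hq : Fact q.Prime]
    (hexp : ∀ v : V, q • v = 0) {ρ : G →* AddMonoid.End V} (hsat : Saturated q ρ)
    (R : Subring (AddMonoid.End V)) (hinv : ∀ g, ∀ r ∈ R, cj ρ g r ∈ R) (hR : IsField ↥R)
    {r : AddMonoid.End V} (hr : r ∈ R) (hr0 : r ≠ 0) : ∃ g, ρ g = r := by
  classical
  haveI : Finite (AddMonoid.End V) := Finite.of_injective _ DFunLike.coe_injective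
  letI : Field ↥R := hR.toField
  haveI := Fintype.ofFinite ↥R
  haveI : CharP ↥R q := by
    refine (CharP.charP_iff_prime_eq_zero hq.1).mpr (Subtype.ext (end_ext fun v => ?_))
    show ((((q : ℕ) : ↥R)) : AddMonoid.End V) v = 0
    rw [show (((q : ℕ) : ↥R) : AddMonoid.End V) v = ((q : ℕ) : ↥R) • v from rfl,
      Nat.cast_smul_eq_nsmul]
    exact hexp v
  have hunits : ¬ q ∣ Nat.card (↥R)ˣ := by
    rw [Nat.card_units]
    obtain ⟨n, -, hn⟩ := FiniteField.card ↥R q
    rw [Nat.card_eq_fintype_card, hn]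
    intro h
    have h1 : q ∣ q ^ (n : ℕ) := dvd_pow_self q n.pos.ne'
    have h2 := Nat.dvd_sub h1 h
    rw [Nat.sub_sub_self (Nat.one_le_pow _ _ hq.1.pos), Nat.dvd_one] at h2
    exact hq.1.ne_one h2
  let T : Subgroup (AddMonoid.End V)ˣ := (Units.map R.subtype.toMonoidHom).range
  have hT : ∀ g : G, ∀ t ∈ T, ρ.toHomUnits g * t * (ρ.toHomUnits g)⁻¹ ∈ T := by
    rintro g _ ⟨u, rfl⟩
    have hne : cj ρ g ((u : ↥R) : AddMonoid.End V) ≠ 0 := fun h => u.ne_zero (Subtype.ext (by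
      rw [← cj_inv_cj ρ g ((u : ↥R) : AddMonoid.End V), h, cj_zero]
      rfl))
    refine ⟨Units.mk0 ⟨cj ρ g (u : ↥R), hinv g _ (u : ↥R).2⟩
      (fun h => hne (congrArg Subtype.val h)), Units.ext ?_⟩
    show ρ g * ((u : ↥R) : AddMonoid.End V) * ρ g⁻¹ = _
    rw [Units.val_mul, Units.val_mul, ← map_inv]
    rfl
  exact hsat T (fun h => hunits (h.trans (Subgroup.card_range_dvd _))) (by
    rintro _ ⟨a, rfl⟩ _ ⟨b, rfl⟩
    rw [← map_mul, ← map_mul, mul_comm]) hT
    (Units.map R.subtype.toMonoidHom (Units.mk0 ⟨r, hr⟩ fun h => hr0 (congrArg Subtype.val h)))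
    ⟨_, rfl⟩

/-- The primitive case: a layer of Heisenberg type. -/
def PrimBase (q : ℕ) : Prop :=
  ∀ (G V K : Type u) [Group G] [Finite G] [Group.IsSolvable G] [AddCommGroup V] [Finite V]
    [Nontrivial V] [Field K] [Finite K] [Module K V] (ρ : G →* AddMonoid.End V),
    (∀ g, ρ g = 1 → g = 1) → (2 : K) ≠ 0 → (Nat.card G : K) ≠ 0 → (q : K) = 0 →
    ∀ (Z N : Subgroup G) [Z.Normal], IsLayer Z N →
    (∀ c ∈ Subgroup.centralizer (Z : Set G), (∀ y ∈ N, c * y = y * c) → c ∈ Z) →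
    (∀ g ∈ Subgroup.centralizer (Z : Set G), ∀ (r : K) (v : V), ρ g (r • v) = r • ρ g v) →
    (∀ z ∈ Z, ∃ r : K, ∀ v, ρ z v = r • v) →
    CfsgLib.PairBase.Heis ρ K N → Good ρ

/-- The homogeneous case. -/
theorem field_case {q : ℕ} [hq : Fact q.Prime] (hq2 : q ≠ 2) (hprim : PrimBase.{u} q)
    [Finite G] [Finite V] [Nontrivial V] [Group.IsSolvable G] (hexp : ∀ v : V, q • v = 0)
    (hcop : ¬ q ∣ Nat.card G) (ρ : G →* AddMonoid.End V) (hfaith : ∀ g, ρ g = 1 → g = 1)
    (hsat : Saturated q ρ) (Z : Subgroup G) [hZn : Z.Normal]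
    (hZc : ∀ a ∈ Z, ∀ b ∈ Z, a * b = b * a)
    (hmax : ∀ B : Subgroup G, B.Normal → Z ≤ B → (∀ a ∈ B, ∀ b ∈ B, a * b = b * a) → B = Z)
    (R : Subring (AddMonoid.End V)) (hcomm : ∀ r ∈ R, ∀ s ∈ R, r * s = s * r)
    (hinv : ∀ g, ∀ r ∈ R, cj ρ g r ∈ R) (hZR : ∀ z ∈ Z, ρ z ∈ R)
    (hgen : ∀ g ∈ Subgroup.centralizer (Z : Set G), ∀ r ∈ R, ρ g * r = r * ρ g)
    (hdiv : ∀ r ∈ R, r ≠ 0 → ∃ s ∈ R, r * s = 1)
    (ih : Below.{u} q (Nat.card V)) : Good ρ := by
  classical
  haveI : Finite (AddMonoid.End V) := Finite.of_injective _ DFunLike.coe_injective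
  have hpair : ∃ x y : ↥R, x ≠ y := ⟨0, 1, fun h => by
    obtain ⟨v, hv⟩ := exists_ne (0 : V)
    exact hv (DFunLike.congr_fun (congrArg Subtype.val h) v).symm⟩
  have hisF : IsField ↥R :=
    ⟨hpair, fun r s => Subtype.ext (hcomm r r.2 s s.2), fun {r} hr => by
      obtain ⟨s, hs, h⟩ := hdiv r r.2 fun h => hr (Subtype.ext h)
      exact ⟨⟨s, hs⟩, Subtype.ext h⟩⟩
  letI : Field ↥R := hisF.toField
  have hsmul : ∀ (r : ↥R) (x : V), r • x = (r : AddMonoid.End V) x := fun _ _ => rfl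
  let ι : ↥Z →* ↥R :=
    { toFun := fun z => ⟨ρ z, hZR z z.2⟩
      map_one' := Subtype.ext (map_one ρ)
      map_mul' := fun a b => Subtype.ext (map_mul ρ (a : G) b) }
  have hιinj : Function.Injective ι := fun a b h => by
    refine Subtype.ext (eq_of_mul_inv_eq_one (hfaith _ ?_))
    rw [map_mul, show ρ (a : G) = ρ b from congrArg Subtype.val h, ← map_mul, mul_inv_cancel,
      map_one]
  haveI : IsCyclic ↥Z := isCyclic_of_subgroup_isDomain ι hιinj
  have hfree : ∀ z ∈ Z, ∀ x, ρ z x = x → x ≠ 0 → z = 1 := by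
    intro z hz x hx hx0
    refine hfaith z ?_
    by_contra h
    obtain ⟨s, hs, hrs⟩ := hdiv (ρ z - 1) (R.sub_mem (hZR z hz) R.one_mem) (sub_ne_zero.mpr h)
    rw [hcomm _ (R.sub_mem (hZR z hz) R.one_mem) s hs] at hrs
    refine hx0 ?_
    have : s ((ρ z - 1) x) = x := DFunLike.congr_fun hrs x
    rw [show (ρ z - 1) x = 0 from sub_eq_zero.mpr hx, map_zero] at this
    exact this.symm
  by_cases hCZ : Subgroup.centralizer (Z : Set G) ≤ Z
  · exact good_of_self_centralizing ρ Z hfree hCZ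
  have heq : ∀ a b : G, ρ a = ρ b → a = b := fun a b h => eq_of_mul_inv_eq_one (hfaith _ (by
    rw [map_mul, h, ← map_mul, mul_inv_cancel, map_one]))
  -- all scalars come from `Z`
  let B : Subgroup G :=
    { carrier := {g | ρ g ∈ R}
      one_mem' := by show ρ 1 ∈ R; rw [map_one]; exact R.one_mem
      mul_mem' := fun {a b} ha hb => by
        show ρ (a * b) ∈ R
        rw [map_mul]; exact R.mul_mem ha hb
      inv_mem' := fun {a} ha => by
        show ρ a⁻¹ ∈ R
        obtain ⟨s, hs, h⟩ := hdiv (ρ a) ha fun h => by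
          obtain ⟨v, hv⟩ := exists_ne (0 : V)
          exact hv (rho_injective ρ a ((DFunLike.congr_fun h v).trans (map_zero (ρ a)).symm))
        have h2 : ρ a⁻¹ = s := by
          rw [← mul_one (ρ a⁻¹), ← h, ← mul_assoc, ← map_mul, inv_mul_cancel, map_one, one_mul]
        rw [h2]; exact hs }
  have hBn : B.Normal := ⟨fun b hb g => by
    show ρ (g * b * g⁻¹) ∈ R
    rw [← cj_rho]; exact hinv g _ hb⟩
  have hBZ : B = Z := hmax B hBn (fun z hz => hZR z hz)
    fun a ha b hb => heq _ _ (by rw [map_mul, map_mul, hcomm _ ha _ hb])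
  have hfull : ∀ r : ↥R, r ≠ 0 → ∃ z ∈ Z, ρ z = (r : AddMonoid.End V) := by
    intro r hr
    obtain ⟨g, hg⟩ := units_mem hexp hsat R hinv hisF r.2 fun h => hr (Subtype.ext h)
    exact ⟨g, hBZ ▸ (show g ∈ B by show ρ g ∈ R; rw [hg]; exact r.2), hg⟩
  obtain ⟨N, hL, hcent⟩ := exists_layer hZc hmax
  by_cases hirrN : ∀ U : AddSubgroup V, (∀ y ∈ N, ∀ x ∈ U, ρ y x ∈ U) → U = ⊥ ∨ U = ⊤
  swap
  · push Not at hirrN
    obtain ⟨U, hU, hU0, hU1⟩ := hirrN
    exact good_reducible hexp hcop ρ hL hcent hfree hU hU0 hU1 ih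
  -- only scalars commute with the layer
  let D : Subring (AddMonoid.End V) := Subring.centralizer (ρ '' (N : Set G))
  have hDinv : ∀ g, ∀ r ∈ D, cj ρ g r ∈ D := by
    intro g r hr
    rw [Subring.mem_centralizer_iff] at hr ⊢
    rintro _ ⟨n, hn, rfl⟩
    have h1 := hr _ ⟨g⁻¹ * n * g, by simpa using hL.normal.conj_mem n hn g⁻¹, rfl⟩
    have h2 := congrArg (cj ρ g) h1
    rwa [cj_mul, cj_mul, cj_rho, show g * (g⁻¹ * n * g) * g⁻¹ = n by group] at h2
  have hDdiv : ∀ d ∈ D, d ≠ 0 → Function.Injective d := by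
    intro d hd hd0
    rw [Subring.mem_centralizer_iff] at hd
    let U : AddSubgroup V := (show V →+ V from d).ker
    have hU : ∀ y ∈ N, ∀ x ∈ U, ρ y x ∈ U := fun y hy x hx => by
      show d (ρ y x) = 0
      rw [show d (ρ y x) = ρ y (d x) from (DFunLike.congr_fun (hd _ ⟨y, hy, rfl⟩) x).symm,
        show d x = 0 from hx, map_zero]
    rcases hirrN U hU with h | h
    · intro a b hab
      refine sub_eq_zero.mp (AddSubgroup.mem_bot.mp (h ▸ (?_ : a - b ∈ U)))
      show d (a - b) = 0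
      rw [map_sub, hab, sub_self]
    · refine absurd (end_ext fun x => ?_) hd0
      exact (show x ∈ U by rw [h]; trivial)
  have hDfield : IsField ↥D := by
    haveI : Nontrivial ↥D := ⟨⟨0, 1, fun h => by
      obtain ⟨v, hv⟩ := exists_ne (0 : V)
      exact hv (DFunLike.congr_fun (congrArg Subtype.val h) v).symm⟩⟩
    haveI : NoZeroDivisors ↥D := ⟨fun {a b} hab => by
      by_contra hc
      rw [not_or] at hc
      refine hc.2 (Subtype.ext (end_ext fun x => ?_))
      refine hDdiv a a.2 (fun h => hc.1 (Subtype.ext h)) ?_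
      show ((a * b : ↥D) : AddMonoid.End V) x = a.1 ((0 : AddMonoid.End V) x)
      rw [hab]
      exact (map_zero a.1).symm⟩
    haveI : IsDomain ↥D := NoZeroDivisors.to_isDomain _
    exact Finite.isDomain_to_isField _
  have hscal : ∀ d ∈ D, ∃ r : ↥R, d = (r : AddMonoid.End V) := by
    intro d hd
    by_cases hd0 : d = 0
    · exact ⟨0, hd0⟩
    obtain ⟨g, hg⟩ := units_mem hexp hsat D hDinv hDfield hd hd0
    rw [Subring.mem_centralizer_iff] at hd
    have hgN : ∀ y ∈ N, g * y = y * g := fun y hy => heq _ _ (by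
      rw [map_mul, map_mul, hg]; exact (hd _ ⟨y, hy, rfl⟩).symm)
    have hgZ : g ∈ Z := hcent g
      (Subgroup.mem_centralizer_iff.mpr fun z hz => (hgN z (hL.le hz)).symm) hgN
    exact ⟨⟨d, hg ▸ hZR g hgZ⟩, rfl⟩
  have hchar : ((q : ℕ) : ↥R) = 0 := Subtype.ext (end_ext fun v => by
    rw [show (((q : ℕ) : ↥R) : AddMonoid.End V) v = ((q : ℕ) : ↥R) • v from rfl,
      Nat.cast_smul_eq_nsmul, hexp v]
    rfl)
  haveI : CharP ↥R q := (CharP.charP_iff_prime_eq_zero hq.1).mpr hchar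
  refine hprim G V ↥R ρ hfaith ?_ ?_ hchar Z N hL hcent
    (fun g hg r v => DFunLike.congr_fun (hgen g hg r r.2) v)
    (fun z hz => ⟨⟨ρ z, hZR z hz⟩, fun v => rfl⟩) ?_
  · rw [show (2 : ↥R) = ((2 : ℕ) : ↥R) from Nat.cast_two.symm, Ne,
      CharP.cast_eq_zero_iff ↥R q, Nat.prime_dvd_prime_iff_eq hq.1 Nat.prime_two]
    exact hq2
  · rwa [Ne, CharP.cast_eq_zero_iff ↥R q]
  refine ⟨hL.normal, fun n hn r v => DFunLike.congr_fun (hgen n (hL.leC hn) r r.2) v,
    fun g => ?_, fun r hr => ?_, fun m hm n hn => ?_, fun T hT => ?_⟩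
  · exact ⟨{ toFun := fun r => ⟨cj ρ g r, hinv g r r.2⟩
             map_one' := Subtype.ext (cj_one ρ g)
             map_mul' := fun r s => Subtype.ext (cj_mul ρ g (r : AddMonoid.End V) s) },
      fun r v => (cj_apply ρ g (r : AddMonoid.End V) v).symm⟩
  · obtain ⟨z, hz, hzr⟩ := hfull r hr
    exact ⟨z, hL.le hz, fun v => DFunLike.congr_fun hzr v⟩
  · refine ⟨⟨ρ ⁅m, n⁆, hZR _ (hL.comm m hm n hn)⟩, fun v => ?_⟩
    rw [show m * n = ⁅m, n⁆ * (n * m) by simp [commutatorElement_def, mul_assoc], rho_mul]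
    rfl
  · obtain ⟨r, hr⟩ := hscal (show AddMonoid.End V from T.toAddMonoidHom) (by
      rw [Subring.mem_centralizer_iff]
      rintro _ ⟨n, hn, rfl⟩
      exact end_ext fun v => (hT n hn v).symm)
    exact ⟨r, fun v => DFunLike.congr_fun hr v⟩

end CfsgLib.CoprimeBase
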