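import Cfsg.Agent.Lib.CoprimeBase.Module
import Cfsg.Agent.Lib.SolBase.Layered

/-!
# Coprime linear groups: glue

Complete reducibility of coprime modules, saturation of a coprime solvable linear group, and the case
of a layer which is not irreducible.
-/

set_option autoImplicit false
set_option linter.unusedSectionVars false
set_option linter.style.haveILetI false

namespace CfsgLib.CoprimeBase

open CfsgLib.OddBase
open scoped commutatorElement

universe u

variable {G V : Type u} [Group G] [AddCommGroup V]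

/-- Bases of size two for all smaller coprime solvable modules of exponent `q`. -/
def Below (q n : ℕ) : Prop :=
  ∀ (H W : Type u) [Group H] [Finite H] [AddCommGroup W] [Finite W]
    (σ : H →* AddMonoid.End W), Nat.card W < n → Group.IsSolvable H → (∀ w : W, q • w = 0) →
      ¬ q ∣ Nat.card H → Good σ

/-- Maschke for a representation by endomorphisms. -/
theorem cr_of_not_dvd [Finite G] {q : ℕ} [Fact q.Prime] (ρ : G →* AddMonoid.End V)
    (hexp : ∀ v : V, q • v = 0) (hcop : ¬ q ∣ Nat.card G) : CR ρ := by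
  letI : DistribMulAction G V :=
    { smul := fun g v => ρ g v
      one_smul := fun v => rho_one ρ v
      mul_smul := fun g h v => rho_mul ρ g h v
      smul_zero := fun g => map_zero (ρ g)
      smul_add := fun g v w => map_add (ρ g) v w }
  intro U hU
  exact completely_reducible hexp hcop U hU

/-- A regular pair can be chosen to start with a non-zero vector. -/
theorem good_ne_zero [Nontrivial V] {ρ : G →* AddMonoid.End V} (h : Good ρ) :
    ∃ a b : V, a ≠ 0 ∧ ∀ g, ρ g a = a → ρ g b = b → ρ g = 1 := by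
  obtain ⟨a, b, hab⟩ := h
  by_cases ha : a = 0
  · by_cases hb : b = 0
    · obtain ⟨v, hv⟩ := exists_ne (0 : V)
      exact ⟨v, 0, hv, fun g _ _ => hab g (by rw [ha, map_zero]) (by rw [hb, map_zero])⟩
    · exact ⟨b, a, hb, fun g h1 h2 => hab g h2 h1⟩
  · exact ⟨a, b, ha, hab⟩

/-- A coprime solvable linear group lies in a maximal one, which contains every coprime abelian
group of units it normalizes. -/
theorem exists_saturated [Finite G] [Finite V] {q : ℕ} [Fact q.Prime] (ρ : G →* AddMonoid.End V)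
    (hsol : Group.IsSolvable G) (hcop : ¬ q ∣ Nat.card G) :
    ∃ H : Subgroup (AddMonoid.End V)ˣ, (∀ g, ρ.toHomUnits g ∈ H) ∧ Group.IsSolvable H ∧
      ¬ q ∣ Nat.card H ∧
      ∀ T : Subgroup (AddMonoid.End V)ˣ, ¬ q ∣ Nat.card T → (∀ a ∈ T, ∀ b ∈ T, a * b = b * a) →
        (∀ h ∈ H, ∀ t ∈ T, h * t * h⁻¹ ∈ T) → T ≤ H := by
  haveI : Finite (AddMonoid.End V) := Finite.of_injective _ DFunLike.coe_injective
  haveI := hsol
  let ψ : G →* (AddMonoid.End V)ˣ := ρ.toHomUnits
  have hs : Group.IsSolvable ψ.range := Group.isSolvable_of_surjective ψ.rangeRestrict_surjective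
  obtain ⟨H, hH⟩ := Set.Finite.exists_maximal
    (s := {H : Subgroup (AddMonoid.End V)ˣ | ψ.range ≤ H ∧ Group.IsSolvable H ∧ ¬ q ∣ Nat.card H})
    (Set.toFinite _)
    ⟨ψ.range, le_rfl, hs, fun h => hcop (h.trans (Subgroup.card_range_dvd ψ))⟩
  obtain ⟨hle, hHs, hHq⟩ := hH.1
  refine ⟨H, fun g => hle ⟨g, rfl⟩, hHs, hHq, fun T hT hTc hTn => ?_⟩
  let K := H ⊔ T
  haveI hTK : (T.subgroupOf K).Normal := by
    refine ⟨fun n hn k => ?_⟩
    rw [Subgroup.mem_subgroupOf] at hn ⊢
    have hsub : K ≤ Subgroup.normalizer (T : Set (AddMonoid.End V)ˣ) :=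
      sup_le (fun h hh => Subgroup.mem_normalizer_iff.mpr fun t => ⟨hTn h hh t, fun ht => by
        have := hTn h⁻¹ (inv_mem hh) _ ht
        simpa [mul_assoc] using this⟩) Subgroup.le_normalizer
    exact (Subgroup.mem_normalizer_iff.mp (hsub k.2) _).mp hn
  let f : ↥H →* ↥K ⧸ T.subgroupOf K :=
    (QuotientGroup.mk' _).comp (Subgroup.inclusion le_sup_left)
  have hf : Function.Surjective f := by
    intro x
    induction x using QuotientGroup.induction_on with
    | H k =>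
      obtain ⟨a, ha, t, ht, hat⟩ : ∃ a ∈ H, ∃ t ∈ T, a * t = (k : (AddMonoid.End V)ˣ) := by
        have hk : (k : (AddMonoid.End V)ˣ) ∈ ((H ⊔ T : Subgroup _) : Set (AddMonoid.End V)ˣ) :=
          k.2
        rw [Subgroup.coe_mul_of_left_le_normalizer_right H T
          (fun h hh => Subgroup.mem_normalizer_iff.mpr fun t => ⟨hTn h hh t, fun ht => by
            have := hTn h⁻¹ (inv_mem hh) _ ht
            simpa [mul_assoc] using this⟩)] at hk
        exact hk
      refine ⟨⟨a, ha⟩, QuotientGroup.eq.2 ?_⟩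
      rw [Subgroup.mem_subgroupOf]
      simpa [← hat] using ht
  haveI : Group.IsSolvable (↥T) := Group.isSolvable_of_comm fun a b =>
    Subtype.ext (hTc a a.2 b b.2)
  haveI : Group.IsSolvable (↥(T.subgroupOf K)) := Group.isSolvable_of_surjective
    (f := (Subgroup.subgroupOfEquivOfLe (le_sup_right : T ≤ K)).symm.toMonoidHom)
    (Subgroup.subgroupOfEquivOfLe (le_sup_right : T ≤ K)).symm.surjective
  haveI : Group.IsSolvable (↥K ⧸ T.subgroupOf K) := by
    haveI := hHs
    exact Group.isSolvable_of_surjective hf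
  have hKs : Group.IsSolvable K :=
    Group.isSolvable_of_ker_le_range (T.subgroupOf K).subtype (QuotientGroup.mk' (T.subgroupOf K))
      (by rw [QuotientGroup.ker_mk', Subgroup.range_subtype])
  have hKq : ¬ q ∣ Nat.card K := by
    rw [Subgroup.card_eq_card_quotient_mul_card_subgroup (T.subgroupOf K),
      Nat.card_congr (Subgroup.subgroupOfEquivOfLe (le_sup_right : T ≤ K)).toEquiv]
    intro h
    rcases (Nat.Prime.dvd_mul Fact.out).mp h with h | h
    · exact hHq (h.trans (Subgroup.card_dvd_of_surjective f hf))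
    · exact hT h
  exact le_sup_right.trans (hH.2 ⟨hle.trans le_sup_left, hKs, hKq⟩ le_sup_left)

/-- The layer is not irreducible. -/
theorem good_reducible [Finite G] [Finite V] [Group.IsSolvable G] {q : ℕ} [Fact q.Prime]
    (hexp : ∀ v : V, q • v = 0) (hcop : ¬ q ∣ Nat.card G) (ρ : G →* AddMonoid.End V)
    {Z N : Subgroup G} (hL : IsLayer Z N)
    (hcent : ∀ c ∈ Subgroup.centralizer (Z : Set G), (∀ y ∈ N, c * y = y * c) → c ∈ Z)
    (hfree : ∀ z ∈ Z, ∀ x, ρ z x = x → x ≠ 0 → z = 1)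
    {U : AddSubgroup V} (hU : ∀ y ∈ N, ∀ x ∈ U, ρ y x ∈ U) (hU0 : U ≠ ⊥) (hU1 : U ≠ ⊤)
    (ih : Below.{u} q (Nat.card V)) : Good ρ := by
  haveI := hL.normal
  obtain ⟨M, hMU, hM⟩ := exists_minimal_le_of_wellFoundedLT
    (fun M : AddSubgroup V => (∀ y ∈ N, ∀ x ∈ M, ρ y x ∈ M) ∧ M ≠ ⊥) U ⟨hU, hU0⟩
  have hmin : ∀ M' : AddSubgroup V, (∀ y ∈ N, ∀ x ∈ M', ρ y x ∈ M') → M' ≤ M → M' ≠ ⊥ →
      M' = M := fun M' h1 h2 h3 => le_antisymm h2 (hM.2 ⟨h1, h3⟩ h2)
  let B := CfsgLib.SolBase.setStab ρ M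
  haveI : Nontrivial M := (AddSubgroup.nontrivial_iff_ne_bot M).2 hM.1.2
  have hlt : Nat.card M < Nat.card V :=
    lt_of_le_of_ne (Nat.le_of_dvd Nat.card_pos (AddSubgroup.card_addSubgroup_dvd_card _))
      fun h => hU1 (top_le_iff.1 (AddSubgroup.eq_top_of_card_eq M h ▸ hMU))
  obtain ⟨a, b, ha, hab⟩ := good_ne_zero (ih B M
    (restr (ρ.comp B.subtype) M (CfsgLib.SolBase.inv_setStab ρ M))
    hlt inferInstance (fun w => Subtype.ext (hexp w))
    (fun h => hcop (h.trans B.card_subgroup_dvd_card)))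
  have hv0 : (a : V) ≠ 0 := fun h => ha (Subtype.ext h)
  refine ⟨a, b, fun g hga hgb => ?_⟩
  have hmaps : ∀ w ∈ M, ρ g w ∈ M := by
    have hinv : ∀ y ∈ N, ∀ x ∈ M.comap (ρ g) ⊓ M, ρ y x ∈ M.comap (ρ g) ⊓ M := by
      rintro y hy x ⟨hx1, hx2⟩
      refine ⟨?_, hM.1.1 y hy x hx2⟩
      show ρ g (ρ y x) ∈ M
      have h2 : ρ (g * y * g⁻¹) (ρ g x) ∈ M := hM.1.1 _ (hL.normal.conj_mem y hy g) _ hx1
      rwa [← rho_mul, inv_mul_cancel_right, rho_mul] at h2
    have h1 := hmin _ hinv inf_le_right fun h => hv0 (by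
      rw [← AddSubgroup.mem_bot, ← h]
      exact ⟨show ρ g (a : V) ∈ M from hga.symm ▸ a.2, a.2⟩)
    intro w hw
    rw [← h1] at hw
    exact hw.1
  have hgB : g ∈ B := CfsgLib.SolBase.mem_setStab ρ M hmaps
  have hid : ∀ w ∈ M, ρ g w = w := fun w hw => congrArg Subtype.val
    (DFunLike.congr_fun (hab ⟨g, hgB⟩ (Subtype.ext hga) (Subtype.ext hgb)) (⟨w, hw⟩ : M))
  have hid' : ∀ w ∈ M, ρ g⁻¹ w = w := fun w hw => CfsgLib.SolBase.fix_inv (hid w hw)
  have hker : ∀ k ∈ N, (∀ w ∈ M, ρ k w = w) → k = 1 := by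
    intro k hk hkM
    refine hfree k (hL.nondeg k hk fun y hy => ?_) _ (hkM _ a.2) hv0
    rw [← commutatorElement_eq_one_iff_mul_comm]
    refine hfree _ (hL.comm k hk y hy) _ ?_ hv0
    have h1 : ρ k⁻¹ (ρ y⁻¹ (a : V)) = ρ y⁻¹ (a : V) :=
      CfsgLib.SolBase.fix_inv (hkM _ (hM.1.1 _ (inv_mem hy) _ a.2))
    rw [commutatorElement_def, rho_mul, rho_mul, rho_mul, h1, rho_apply_inv, hkM _ a.2]
  have hcomm : ∀ y ∈ N, g * y = y * g := by
    intro y hy
    rw [← commutatorElement_eq_one_iff_mul_comm]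
    have hgy : ⁅g, y⁆ ∈ N := by
      rw [commutatorElement_def]
      exact N.mul_mem (hL.normal.conj_mem y hy g) (N.inv_mem hy)
    refine hker _ hgy fun w hw => ?_
    have hyw : ρ y⁻¹ w ∈ M := hM.1.1 _ (inv_mem hy) w hw
    rw [commutatorElement_def, rho_mul, rho_mul, rho_mul, hid' _ hyw, rho_apply_inv, hid w hw]
  have hgZ : g ∈ Z := hcent g
    (Subgroup.mem_centralizer_iff.mpr fun z hz => (hcomm z (hL.le hz)).symm) hcomm
  rw [hfree g hgZ _ hga hv0, map_one]

end CfsgLib.CoprimeBase
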