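import Cfsg.Agent.Lib.CoprimeBase.Field
import Cfsg.Agent.Lib.CopBase.Reduce
import Cfsg.Agent.Lib.CoprimeBase.Adapter

/-!
# Coprime solvable linear groups in odd characteristic have a base of size two

The main induction, with the primitive case as a hypothesis.
-/

set_option autoImplicit false
set_option maxHeartbeats 800000
set_option linter.unusedSectionVars false
set_option linter.style.haveILetI false

namespace CfsgLib.CoprimeBase

open CfsgLib.OddBase

universe u v

variable {q : ℕ} [hq : Fact q.Prime]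

/-- The irreducible saturated case. -/
theorem good_irreducible (hq2 : q ≠ 2) (hprim : PrimBase.{u} q) {G V : Type u} [Group G]
    [AddCommGroup V] [Finite G] [Finite V] [Nontrivial V] [Group.IsSolvable G]
    (hexp : ∀ v : V, q • v = 0) (hcop : ¬ q ∣ Nat.card G) (ρ : G →* AddMonoid.End V)
    (hfaith : ∀ g, ρ g = 1 → g = 1) (hsat : Saturated q ρ) (hirr : Irr ρ)
    (ih : Below.{u} q (Nat.card V)) : Good ρ := by
  haveI : Finite (AddMonoid.End V) := Finite.of_injective _ DFunLike.coe_injective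
  obtain ⟨Z, hZ⟩ := Set.Finite.exists_maximal
    (s := {B : Subgroup G | B.Normal ∧ ∀ a ∈ B, ∀ b ∈ B, a * b = b * a}) (Set.toFinite _)
    ⟨⊥, inferInstance, fun a ha b hb => by
      rw [Subgroup.mem_bot.mp ha, Subgroup.mem_bot.mp hb]⟩
  obtain ⟨hZn, hZc⟩ := hZ.1
  haveI := hZn
  have hmax : ∀ B : Subgroup G, B.Normal → Z ≤ B → (∀ a ∈ B, ∀ b ∈ B, a * b = b * a) → B = Z :=
    fun B hB hZB hBc => le_antisymm (hZ.2 ⟨hB, hBc⟩ hZB) hZB
  let S : Set (AddMonoid.End V) := ρ '' (Z : Set G)
  let R : Subring (AddMonoid.End V) := Subring.closure S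
  haveI : IsMulCommutative R := Subring.isMulCommutative_closure (by
    rintro _ ⟨a, ha, rfl⟩ _ ⟨b, hb, rfl⟩
    rw [← map_mul, ← map_mul, hZc a ha b hb])
  have hcomm : ∀ r ∈ R, ∀ s ∈ R, r * s = s * r := fun r hr s hs =>
    congrArg Subtype.val (mul_comm' (⟨r, hr⟩ : R) ⟨s, hs⟩)
  have hinv : ∀ g, ∀ r ∈ R, cj ρ g r ∈ R := by
    intro g r hr
    refine Subring.closure_induction ?_ ?_ ?_ ?_ ?_ ?_ hr
    · rintro _ ⟨z, hz, rfl⟩
      rw [cj_rho]
      exact Subring.subset_closure ⟨_, hZn.conj_mem z hz g, rfl⟩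
    · rw [cj_zero]; exact R.zero_mem
    · rw [cj_one]; exact R.one_mem
    · intro a b _ _ ha hb; rw [cj_add]; exact R.add_mem ha hb
    · intro a _ ha; rw [cj_neg]; exact R.neg_mem ha
    · intro a b _ _ ha hb; rw [cj_mul]; exact R.mul_mem ha hb
  by_cases hidem : ∃ f ∈ R, f * f = f ∧ f ≠ 0 ∧ f ≠ 1
  · obtain ⟨f, hfR, hf, hf0, hf1⟩ := hidem
    exact CfsgLib.CopBase.good_of_idempotent hq2 hexp hcop hirr R hcomm hinv hfR hf hf0 hf1 ih
  push Not at hidem
  refine field_case hq2 hprim hexp hcop ρ hfaith hsat Z hZc hmax R hcomm hinv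
    (fun z hz => Subring.subset_closure ⟨z, hz, rfl⟩) (fun g hg r hr => ?_) (fun r hr hr0 => ?_)
    ih
  · refine (Subring.mem_centralizer_iff.mp
      (show r ∈ Subring.centralizer {ρ g} from ?_) (ρ g) rfl)
    refine (Subring.closure_le.mpr ?_) hr
    rintro _ ⟨z, hz, rfl⟩
    exact Subring.mem_centralizer_iff.mpr fun t ht => by
      rw [Set.mem_singleton_iff.mp ht, ← map_mul, ← map_mul,
        Subgroup.mem_centralizer_iff.mp hg z hz]
  · obtain ⟨n, hn, hidem'⟩ := exists_pow_idem r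
    have h1 : r ^ n = 1 := hidem _ (R.pow_mem hr n) hidem' fun h =>
      hr0 (eq_zero_of_nilpotent hirr R hcomm hinv hr h)
    refine ⟨r ^ (n - 1), R.pow_mem hr _, ?_⟩
    rw [← pow_succ', Nat.sub_add_cancel hn, h1]

theorem good_aux (hq2 : q ≠ 2) (hprim : PrimBase.{u} q) (n : ℕ) :
    ∀ (G V : Type u) [Group G] [Finite G] [AddCommGroup V] [Finite V]
      (ρ : G →* AddMonoid.End V), Nat.card V = n → Group.IsSolvable G → (∀ v : V, q • v = 0) →
        ¬ q ∣ Nat.card G → Good ρ := by
  induction n using Nat.strong_induction_on with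
  | _ n ih =>
  intro G V _ _ _ _ ρ hn hsol hexp hcop
  by_cases hirr : Irr ρ
  · rcases subsingleton_or_nontrivial V with hV | hV
    · exact ⟨0, 0, fun g _ _ => end_ext fun x => Subsingleton.elim _ _⟩
    haveI : Finite (AddMonoid.End V) := Finite.of_injective _ DFunLike.coe_injective
    obtain ⟨H, hle, hHs, hHq, hHsat⟩ := exists_saturated ρ hsol hcop
    haveI := hHs
    let σ : ↥H →* AddMonoid.End V := (Units.coeHom _).comp H.subtype
    have hσ : ∀ h : ↥H, σ.toHomUnits h = (h : (AddMonoid.End V)ˣ) := fun h => Units.ext rfl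
    obtain ⟨x, y, hxy⟩ := good_irreducible hq2 hprim hexp hHq σ
      (fun h he => Subtype.ext (Units.ext he))
      (fun T hT hTc hTn t ht => ⟨⟨t, hHsat T hT hTc (fun h hh s hs => by
        have h1 := hTn ⟨h, hh⟩ s hs
        rwa [hσ] at h1) ht⟩, rfl⟩)
      (fun U hU => hirr U fun g z hz => hU ⟨_, hle g⟩ z hz)
      (fun K W _ _ _ _ τ hW hK hWexp hKq => ih _ (hn ▸ hW) K W τ rfl hK hWexp hKq)
    exact ⟨x, y, fun g h1 h2 => hxy ⟨_, hle g⟩ h1 h2⟩
  · obtain ⟨U, hU, hU0, hU1⟩ : ∃ U, CfsgLib.OddBase.Inv ρ U ∧ U ≠ ⊥ ∧ U ≠ ⊤ := by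
      simp only [Irr, not_forall, not_or] at hirr
      obtain ⟨U, hU, h⟩ := hirr
      exact ⟨U, hU, h⟩
    obtain ⟨W, hW, hUW, htop⟩ := cr_of_not_dvd ρ hexp hcop U hU
    have hlt : ∀ T : AddSubgroup V, T ≠ ⊤ → Nat.card T < n := fun T hT => hn ▸
      lt_of_le_of_ne (Nat.le_of_dvd Nat.card_pos (AddSubgroup.card_addSubgroup_dvd_card _))
        fun h => hT (AddSubgroup.eq_top_of_card_eq _ h)
    have hW1 : W ≠ ⊤ := fun h => hU0 (by rwa [h, inf_top_eq] at hUW)
    exact good_of_sum hU hW hUW htop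
      (ih _ (hlt U hU1) G U _ rfl hsol (fun w => Subtype.ext (hexp w)) hcop)
      (ih _ (hlt W hW1) G W _ rfl hsol (fun w => Subtype.ext (hexp w)) hcop)

/-- A coprime solvable group acting faithfully on a module of odd prime exponent has a base of
size two. -/
theorem exists_pair (hq2 : q ≠ 2) (hprim : PrimBase.{max u v} q) {A : Type u} {V : Type v}
    [Group A] [Finite A] [AddCommGroup V] [Finite V] [DistribMulAction A V] [FaithfulSMul A V]
    (hsol : Group.IsSolvable A) (hexp : ∀ z : V, q • z = 0) (hcop : ¬ q ∣ Nat.card A) :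
    ∃ z w : V, ∀ a : A, a • z = z → a • w = w → a = 1 := by
  let ρ : ULift.{v} A →* AddMonoid.End (ULift.{u} V) :=
    { toFun := fun a => AddMonoidHom.mk' (fun x => ULift.up (a.down • x.down))
        fun x y => congrArg ULift.up (smul_add a.down x.down y.down)
      map_one' := end_ext fun x => congrArg ULift.up (one_smul A x.down)
      map_mul' := fun a b => end_ext fun x => congrArg ULift.up (mul_smul a.down b.down x.down) }
  haveI := hsol
  haveI : Group.IsSolvable (ULift.{v} A) :=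
    Group.isSolvable_of_surjective
      (f := (MulEquiv.ulift.{u, v} (α := A)).symm.toMonoidHom) MulEquiv.ulift.symm.surjective
  obtain ⟨x, y, hxy⟩ := good_aux hq2 hprim (Nat.card (ULift.{u} V)) _ _ ρ rfl inferInstance
    (fun w => ULift.ext _ _ (hexp w.down)) (by rwa [Nat.card_congr Equiv.ulift])
  refine ⟨x.down, y.down, fun a ha hb => FaithfulSMul.eq_of_smul_eq_smul (α := V) fun z => ?_⟩
  have h := DFunLike.congr_fun (hxy (ULift.up a) (congrArg ULift.up ha) (congrArg ULift.up hb))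
    (ULift.up z)
  rw [one_smul]
  exact congrArg ULift.down h

/-- The representation form. -/
theorem exists_pair_rep (hprim : ∀ q : ℕ, q.Prime → PrimBase.{max u v} q) {F : Type*} [Field F]
    [Fintype F] (hF : ringChar F ≠ 2) {V : Type v} [AddCommGroup V] [Module F V] [Finite V]
    {G : Type u} [Group G] [Finite G] (hsol : Group.IsSolvable G) (ρ : Representation F G V)
    (hfaith : Function.Injective ρ) (hcop : (Nat.card G).Coprime (Nat.card V)) :
    ∃ x y : V, ∀ g : G, ρ g x = x → ρ g y = y → g = 1 := by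
  obtain ⟨p, hp⟩ := CharP.exists F
  have hpp : p.Prime := (CharP.char_is_prime_or_zero F p).resolve_right
    (CharP.char_ne_zero_of_finite F p)
  haveI := Fact.mk hpp
  rcases subsingleton_or_nontrivial V with hV | hV
  · exact ⟨0, 0, fun g _ _ => hfaith (LinearMap.ext fun x => Subsingleton.elim _ _)⟩
  letI : DistribMulAction G V :=
    { smul := fun g v => ρ g v
      one_smul := fun v => by show ρ 1 v = v; rw [map_one]; rfl
      mul_smul := fun g h v => by show ρ (g * h) v = ρ g (ρ h v); rw [map_mul]; rfl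
      smul_zero := fun g => map_zero (ρ g)
      smul_add := fun g v w => map_add (ρ g) v w }
  haveI : FaithfulSMul G V := ⟨fun {a b} h => hfaith (LinearMap.ext h)⟩
  have hexp : ∀ z : V, p • z = 0 := fun z => by
    rw [← Nat.cast_smul_eq_nsmul F, CharP.cast_eq_zero, zero_smul]
  have hpV : p ∣ Nat.card V := by
    obtain ⟨t, ht⟩ := exists_ne (0 : V)
    rw [← addOrderOf_eq_prime (hexp t) ht]
    exact addOrderOf_dvd_natCard t
  exact exists_pair (fun h => hF (by rw [ringChar.eq F p]; exact h)) (hprim p hpp) hsol hexp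
    fun h => hpp.ne_one (Nat.dvd_one.mp (hcop ▸ Nat.dvd_gcd h hpV))

end CfsgLib.CoprimeBase
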