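import Cfsg.Agent.Lib.CoprimeBase.Module
import Cfsg.Agent.Lib.Solvable.PiSeparableHall
import Cfsg.Agent.Lib.OddOrder.PiCore
import Mathlib.GroupTheory.SchurZassenhaus
import Cfsg.Prelude.Def_OddOrderLocal

/-!
Three conjugates of a Hall `π`-subgroup of a `π`-solvable group meet in the `π`-core.
-/

set_option autoImplicit false
set_option linter.unusedSectionVars false
set_option linter.style.haveILetI false

namespace CfsgLib.CoprimeBase

open Subgroup
open CfsgLib.Solvable (PrimesIn PrimesOut IsPiSeparable)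
open scoped Pointwise

universe u

variable {G : Type u} [Group G]

theorem relIndex_dvd_relIndex_of_le {A B K : Subgroup G} (hA : A.Normal) (hK : K ≤ B) :
    A.relIndex K ∣ A.relIndex B := by
  haveI := hA
  rw [← relIndex_subgroupOf hK]
  exact relIndex_dvd_index_of_normal _ _

variable [Finite G]

/-- In a `π`-separable group without nontrivial normal `π`-subgroup, the centralizer of the
`π'`-core lies in it. -/
theorem centralizer_piCore_le {π : Set ℕ} (hsep : IsPiSeparable π G) (hcore : Cfsg.piCore π G = ⊥) :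
    centralizer (Cfsg.piCore {p | p ∉ π} G : Set G) ≤ Cfsg.piCore {p | p ∉ π} G := by
  set L := Cfsg.piCore {p | p ∉ π} G with hL
  set C := centralizer (L : Set G) with hC
  haveI : L.Normal := inferInstance
  haveI : C.Normal := inferInstance
  set Z := C ⊓ L with hZ
  haveI : Z.Normal := inferInstance
  by_contra hne
  obtain ⟨n, S, h0, hl, hm, hnn, hfac⟩ := hsep.quotient Z
  set Cb := C.map (QuotientGroup.mk' Z) with hCb
  haveI : Cb.Normal := (inferInstance : C.Normal).map _ (QuotientGroup.mk'_surjective Z)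
  have hCb1 : Cb ≠ ⊥ := fun h => by
    rw [hCb, Subgroup.map_eq_bot_iff, QuotientGroup.ker_mk'] at h
    exact hne (h.trans inf_le_right)
  obtain ⟨i, hi0, hi1⟩ : ∃ i : Fin n, S i.castSucc ⊓ Cb = ⊥ ∧ S i.succ ⊓ Cb ≠ ⊥ := by
    by_contra hno
    simp only [not_exists, not_and, not_not] at hno
    have hall : ∀ i, S i ⊓ Cb = ⊥ := Fin.induction (by rw [h0, bot_inf_eq]) hno
    have := hall (Fin.last n)
    rw [hl, top_inf_eq] at this
    exact hCb1 this
  set Xb := S i.succ ⊓ Cb with hXb
  haveI : (S i.succ).Normal := hnn _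
  haveI : Xb.Normal := inferInstance
  have hcard : Nat.card Xb ∣ (S i.castSucc).relIndex (S i.succ) := by
    have h1 := relIndex_dvd_relIndex_of_le (hnn i.castSucc) (K := Xb) (B := S i.succ) inf_le_left
    rwa [← inf_relIndex_right, eq_bot_iff.mpr
      ((inf_le_inf_left _ inf_le_right).trans hi0.le), relIndex_bot_left] at h1
  set X := Xb.comap (QuotientGroup.mk' Z) with hX
  haveI : X.Normal := Normal.comap inferInstance _
  have hZX : Z ≤ X := fun z hz => by
    rw [hX, mem_comap, QuotientGroup.mk'_apply, (QuotientGroup.eq_one_iff z).mpr hz]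
    exact one_mem _
  have hXC : X ≤ C := by
    intro x hx
    obtain ⟨c, hc, hcx⟩ := (mem_comap.mp hx).2
    obtain ⟨z, hz, hzx⟩ := (QuotientGroup.mk'_eq_mk' Z).mp hcx
    rw [← hzx]
    exact mul_mem hc hz.1
  have hidx : Z.relIndex X = Nat.card Xb := by
    have h1 := relIndex_comap (⊥ : Subgroup (G ⧸ Z)) (QuotientGroup.mk' Z) X
    rw [MonoidHom.comap_bot, QuotientGroup.ker_mk', hX,
      map_comap_eq_self_of_surjective (QuotientGroup.mk'_surjective Z), relIndex_bot_left] at h1
    exact h1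
  have hLpi : PrimesOut π (Nat.card L) := fun q hq hd =>
    CfsgLib.OddOrder.piCore_isPiSubgroup {p | p ∉ π} G q hq hd
  have hZout : PrimesOut π (Nat.card Z) := fun q hq hd =>
    hLpi q hq (hd.trans (card_dvd_of_le inf_le_right))
  have hXcard : Nat.card X = Nat.card Z * Nat.card Xb := by
    rw [← hidx, mul_comm, relIndex, ← Nat.card_congr (subgroupOfEquivOfLe hZX).toEquiv,
      mul_comm, Subgroup.card_mul_index]
  rcases hfac i with hin | hout
  · -- a `π`-section: the complement of the central `Z` is a normal `π`-subgroup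
    have hXbin : PrimesIn π (Nat.card Xb) := fun q hq hd => hin q hq (hd.trans hcard)
    haveI : (Z.subgroupOf X).Normal := inferInstance
    have hco : (Nat.card (Z.subgroupOf X)).Coprime (Z.subgroupOf X).index := by
      rw [Nat.card_congr (subgroupOfEquivOfLe hZX).toEquiv, show (Z.subgroupOf X).index = _ from hidx]
      exact CfsgLib.Solvable.coprime_of_primesIn_out hZout hXbin
    obtain ⟨Y, hY⟩ := Subgroup.exists_right_complement'_of_coprime hco
    have hcen : ∀ z ∈ Z.subgroupOf X, ∀ x : X, z * x = x * z := fun z hz x =>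
      Subtype.ext (hXC x.2 _ (mem_subgroupOf.mp hz).2)
    haveI : Y.Normal := by
      refine ⟨fun y hy x => ?_⟩
      obtain ⟨⟨z, w⟩, hzw⟩ := (hY.existsUnique x).exists
      rw [← hzw]
      have e : (z : X) * (w : X) * y * ((z : X) * (w : X))⁻¹ = (w : X) * y * (w : X)⁻¹ := by
        rw [mul_inv_rev]
        calc _ = (z : X) * ((w : X) * y * (w : X)⁻¹) * (z : X)⁻¹ := by group
          _ = ((w : X) * y * (w : X)⁻¹) * (z : X) * (z : X)⁻¹ := by rw [hcen _ z.2]
          _ = _ := by group
      rw [e]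
      exact mul_mem (mul_mem w.2 hy) (inv_mem w.2)
    have hYcard : Nat.card Y = Nat.card Xb := by
      have := hY.card_mul
      rw [Nat.card_congr (subgroupOfEquivOfLe hZX).toEquiv, hXcard] at this
      exact Nat.eq_of_mul_eq_mul_left Nat.card_pos this
    have hYle : Y ≤ Cfsg.piCore π X := CfsgLib.OddOrder.le_piCore inferInstance fun q hq hd =>
      hXbin q hq (hYcard ▸ hd)
    haveI : (Cfsg.piCore π X).Characteristic := CfsgLib.OddOrder.piCore_characteristic π X
    have hbot : (Cfsg.piCore π X).map X.subtype ≤ Cfsg.piCore π G := by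
      refine CfsgLib.OddOrder.le_piCore
        (CfsgLib.Solvable.normal_map_subtype_of_characteristic X _) fun q hq hd => ?_
      rw [card_subtype] at hd
      exact CfsgLib.OddOrder.piCore_isPiSubgroup π X q hq hd
    rw [hcore, le_bot_iff, map_eq_bot_iff_of_injective _ X.subtype_injective] at hbot
    rw [hbot, le_bot_iff] at hYle
    rw [hYle, card_bot] at hYcard
    exact hi1 (card_eq_one.mp hYcard.symm)
  · -- a `π'`-section lies in the core
    have hXle : X ≤ L := CfsgLib.OddOrder.le_piCore inferInstance fun q hq hd => by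
      rw [hXcard] at hd
      rcases (Nat.Prime.dvd_mul hq).mp hd with h | h
      · exact hZout q hq h
      · exact hout q hq (h.trans hcard)
    have hXZ : X ≤ Z := le_inf hXC hXle
    rw [relIndex_eq_one.mpr hXZ] at hidx
    exact hi1 (card_eq_one.mp hidx.symm)

/-- A series with `p`-factors for `p ∈ π` or `π'`-factors meets a `π`-subgroup in a solvable
series. -/
theorem isSolvable_of_piSubgroup {π : Set ℕ} {n : ℕ} (N : Fin (n + 1) → Subgroup G) (h0 : N 0 = ⊥)
    (hl : N (Fin.last n) = ⊤) (hm : Monotone N) (hn : ∀ i, (N i).Normal)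
    (hfac : ∀ i : Fin n, (∃ p ∈ π, p.Prime ∧ ∃ k : ℕ, (N i.castSucc).relIndex (N i.succ) = p ^ k) ∨
      (∀ q : ℕ, q.Prime → q ∣ (N i.castSucc).relIndex (N i.succ) → q ∉ π))
    {H : Subgroup G} (hH : ∀ p : ℕ, p.Prime → p ∣ Nat.card H → p ∈ π) : Group.IsSolvable H := by
  have key : ∀ i, Group.IsSolvable ↥(N i ⊓ H) := by
    refine Fin.induction ?_ fun i hi => ?_
    · haveI : Subsingleton ↥(N 0 ⊓ H) := by
        rw [h0, bot_inf_eq]
        infer_instance
      exact Group.isSolvable_of_comm fun a b => Subsingleton.elim _ _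
    · set A := N i.castSucc ⊓ H with hA
      set B := N i.succ ⊓ H with hB
      have hAB : A ≤ B := inf_le_inf_right _ (hm Fin.castSucc_lt_succ.le)
      have hsub : A.subgroupOf B = (N i.castSucc).subgroupOf B := by
        ext x
        simp only [mem_subgroupOf, hA, mem_inf]
        exact ⟨fun h => h.1, fun h => ⟨h, x.2.2⟩⟩
      haveI : (A.subgroupOf B).Normal := by
        rw [hsub]
        exact (hn _).subgroupOf B
      rw [Group.isSolvable_iff_subgroup_quotient (A.subgroupOf B)]
      refine ⟨?_, ?_⟩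
      · haveI := hi
        exact Group.isSolvable_of_isSolvable_injective
          (f := (subgroupOfEquivOfLe hAB).toMonoidHom) (subgroupOfEquivOfLe hAB).injective
      · have hd1 : Nat.card (B ⧸ A.subgroupOf B) ∣ (N i.castSucc).relIndex (N i.succ) := by
          rw [← index_eq_card, hsub]
          exact relIndex_dvd_relIndex_of_le (hn _) inf_le_left
        have hd2 : Nat.card (B ⧸ A.subgroupOf B) ∣ Nat.card H :=
          (A.subgroupOf B).card_quotient_dvd_card.trans (card_dvd_of_le inf_le_right)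
        rcases hfac i with ⟨p, -, hp, k, hk⟩ | hout
        · haveI := Fact.mk hp
          rw [hk] at hd1
          obtain ⟨j, -, hj⟩ := (Nat.dvd_prime_pow hp).mp hd1
          haveI := (IsPGroup.of_card hj).isNilpotent
          infer_instance
        · have h1 : Nat.card (B ⧸ A.subgroupOf B) = 1 := by
            by_contra h
            obtain ⟨q, hq, hqd⟩ := Nat.exists_prime_and_dvd h
            exact hout q hq (hqd.trans hd1) (hH q hq (hqd.trans hd2))
          haveI := (Nat.card_eq_one_iff_unique.mp h1).1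
          exact Group.isSolvable_of_comm fun a b => Subsingleton.elim _ _
  have := key (Fin.last n)
  rwa [hl, top_inf_eq] at this

theorem hall_three_conjugates (hbase : EvenBase.{u, u}) {π : Set ℕ}
    (hsolv : ∃ (n : ℕ) (N : Fin (n + 1) → Subgroup G), N 0 = ⊥ ∧ N (Fin.last n) = ⊤ ∧ Monotone N ∧
      (∀ i, (N i).Normal) ∧
      ∀ i : Fin n, (∃ p ∈ π, p.Prime ∧ ∃ k : ℕ, (N i.castSucc).relIndex (N i.succ) = p ^ k) ∨
        (∀ q : ℕ, q.Prime → q ∣ (N i.castSucc).relIndex (N i.succ) → q ∉ π))
    (H : Subgroup G) (hH : Cfsg.IsPiHall π H) :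
    ∃ x y : G, H ⊓ MulAut.conj x • H ⊓ MulAut.conj y • H = Cfsg.piCore π G := by
  obtain ⟨n, S, h0, hl, hm, hn, hfac⟩ := hsolv
  haveI hHs : Group.IsSolvable H := isSolvable_of_piSubgroup S h0 hl hm hn hfac hH.1
  have hsep : IsPiSeparable π G := ⟨n, S, h0, hl, hm, hn, fun i => (hfac i).imp
    (fun ⟨p, hp, hpp, k, hk⟩ q hq hd => by
      rw [hk] at hd
      rwa [(Nat.prime_dvd_prime_iff_eq hq hpp).mp (hq.dvd_of_dvd_pow hd)]) id⟩
  set N := Cfsg.piCore π G with hN
  have hNpi : ∀ q : ℕ, q.Prime → q ∣ Nat.card N → q ∈ π := CfsgLib.OddOrder.piCore_isPiSubgroup π G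
  have hNH : N ≤ H := by
    refine le_trans (le_sup_left (b := H)) (relIndex_eq_one.mp ?_)
    by_contra h
    obtain ⟨q, hq, hqd⟩ := Nat.exists_prime_and_dvd h
    refine hH.2 q hq ?_ (hqd.trans (relIndex_dvd_index_of_le le_sup_right))
    rcases (Nat.Prime.dvd_mul hq).mp
      ((hqd.trans (relIndex_dvd_card _ _)).trans (CfsgLib.Solvable.card_sup_dvd_mul N H)) with h' | h'
    · exact hNpi q hq h'
    · exact hH.1 q hq h'
  set f := QuotientGroup.mk' N with hf
  have hsurj : Function.Surjective f := QuotientGroup.mk'_surjective N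
  set Hb := H.map f with hHb
  set L := Cfsg.piCore {p | p ∉ π} (G ⧸ N) with hL
  have hcent := centralizer_piCore_le (hsep.quotient N) (CfsgLib.OddOrder.piCore_quotient_eq_bot N rfl)
  haveI : L.Normal := inferInstance
  letI act : MulDistribMulAction Hb L := MulDistribMulAction.compHom L
    ((MulAut.conjNormal (H := L)).comp Hb.subtype)
  have hsmul : ∀ (h : Hb) (l : L), ((h • l : L) : G ⧸ N) = h * l * (h : G ⧸ N)⁻¹ := fun h l => by
    show ((MulAut.conjNormal (h : G ⧸ N) l : L) : G ⧸ N) = _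
    rw [MulAut.conjNormal_apply]
  have hcop : (Nat.card Hb).Coprime (Nat.card L) :=
    (CfsgLib.Solvable.coprime_of_primesIn_out (π := π)
      (fun q hq hd => CfsgLib.OddOrder.piCore_isPiSubgroup {p | p ∉ π} (G ⧸ N) q hq hd)
      (fun q hq hd => hH.1 q hq (hd.trans (card_map_dvd H f)))).symm
  have hinf : Hb ⊓ L = ⊥ := inf_eq_bot_of_coprime hcop
  haveI : FaithfulSMul Hb L := ⟨fun {a b} hab => by
    have hc : ((a⁻¹ * b : Hb) : G ⧸ N) ∈ centralizer (L : Set (G ⧸ N)) := by
      intro l hl
      have := congrArg Subtype.val (show (a⁻¹ * b) • (⟨l, hl⟩ : L) = ⟨l, hl⟩ by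
        rw [mul_smul, ← hab, inv_smul_smul])
      rw [hsmul] at this
      exact (mul_inv_eq_iff_eq_mul.mp this).symm
    have : ((a⁻¹ * b : Hb) : G ⧸ N) ∈ Hb ⊓ L := ⟨(a⁻¹ * b).2, hcent hc⟩
    rw [hinf, mem_bot] at this
    exact inv_mul_eq_one.mp (Subtype.ext this)⟩
  have hHbs : Group.IsSolvable Hb :=
    Group.isSolvable_of_surjective (f := f.subgroupMap H) (f.subgroupMap_surjective H)
  obtain ⟨x, y, hxy⟩ := exists_two_elements_faithful hbase (A := Hb) (K := L) hHbs hcop
  obtain ⟨x', hx'⟩ := hsurj (x : G ⧸ N)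
  obtain ⟨y', hy'⟩ := hsurj (y : G ⧸ N)
  refine ⟨x', y', le_antisymm ?_ ?_⟩
  · rintro g ⟨⟨hg, hgx⟩, hgy⟩
    have key : ∀ (z : G) (zb : L), f z = zb → g ∈ MulAut.conj z • H →
        (⟨f g, mem_map_of_mem f hg⟩ : Hb) • zb = zb := by
      intro z zb hz hgz
      rw [mem_pointwise_smul_iff_inv_smul_mem] at hgz
      have h1 : f ((MulAut.conj z)⁻¹ • g) ∈ Hb := mem_map_of_mem f hgz
      rw [← map_inv, MulAut.smul_def, MulAut.conj_apply, inv_inv, map_mul, map_mul, map_inv, hz] at h1
      have h2 : (f g)⁻¹ * ((zb : G ⧸ N)⁻¹ * f g * (zb : G ⧸ N)) ∈ Hb :=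
        mul_mem (inv_mem (mem_map_of_mem f hg)) h1
      have h3 : (f g)⁻¹ * ((zb : G ⧸ N)⁻¹ * f g * (zb : G ⧸ N)) ∈ L := by
        have h4 := (inferInstance : L.Normal).conj_mem _ (inv_mem zb.2) (f g)⁻¹
        rw [inv_inv] at h4
        have h5 := mul_mem h4 zb.2
        simpa [mul_assoc] using h5
      have h6 : (f g)⁻¹ * ((zb : G ⧸ N)⁻¹ * f g * (zb : G ⧸ N)) = 1 :=
        (mem_bot.mp (hinf ▸ ⟨h2, h3⟩))
      refine Subtype.ext ?_
      rw [hsmul]
      have h7 : f g * (zb : G ⧸ N) = (zb : G ⧸ N) * f g := by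
        rw [inv_mul_eq_one] at h6
        calc f g * (zb : G ⧸ N) = (zb : G ⧸ N) * ((zb : G ⧸ N)⁻¹ * f g * (zb : G ⧸ N)) := by group
          _ = _ := by rw [← h6]
      rw [h7, mul_inv_cancel_right]
    have := congrArg Subtype.val
      (hxy ⟨f g, mem_map_of_mem f hg⟩ (key x' x hx' hgx) (key y' y hy' hgy))
    rw [OneMemClass.coe_one] at this
    exact (QuotientGroup.eq_one_iff g).mp this
  · haveI : N.Normal := inferInstance
    have hconj : ∀ z : G, N ≤ MulAut.conj z • H := fun z => by
      rw [← Normal.conj_smul_eq_self z N]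
      exact pointwise_smul_le_pointwise_smul_iff.mpr hNH
    exact le_inf (le_inf hNH (hconj x')) (hconj y')

end CfsgLib.CoprimeBase
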